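import Mathlib
import Cfsg.Agent.S0000
import Cfsg.Agent.H101.RealFinal
import Cfsg.Agent.H393.Iso.Mathieu
import Cfsg.Agent.H393.Iso.Co1
import Cfsg.Agent.H547.SelfCent.Base

/-!
# S4790, T24a: a nonabelian simple group has an element of odd order with a centralizer of odd order (helper117)

`H101.RO` (real elements) gives it except for `M12`, `Co1` (elements of order 11, 23) and the alternating groups
(`m`-cycles, `m = n` or `n - 1` odd).
-/

set_option autoImplicit false

namespace Cfsg.Agent.H117.S4790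

open Cfsg Subgroup

universe u

theorem card_cent_dvd {G H : Type*} [Group G] [Group H] [Finite H] (f : G →* H) (hf : Function.Injective f) (x : G) :
    Nat.card (centralizer ({x} : Set G)) ∣ Nat.card (centralizer ({f x} : Set H)) := by
  have h1 : (centralizer ({x} : Set G)).map f ≤ centralizer ({f x} : Set H) := by
    rintro _ ⟨y, hy, rfl⟩
    rw [SetLike.mem_coe, mem_centralizer_singleton_iff] at hy
    rw [mem_centralizer_singleton_iff, ← map_mul, ← map_mul, hy]
  rw [Nat.card_congr ((centralizer ({x} : Set G)).equivMapOfInjective f hf).toEquiv]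
  exact Subgroup.card_dvd_of_le h1

theorem of_card {G : Type*} [Group G] {x : G} (h : ¬ 2 ∣ Nat.card (centralizer ({x} : Set G))) :
    ∃ x : G, ¬ 2 ∣ orderOf x ∧ ¬ 2 ∣ Nat.card (centralizer ({x} : Set G)) := by
  refine ⟨x, fun h2 => h (h2.trans ?_), h⟩
  have hx : x ∈ centralizer ({x} : Set G) := mem_centralizer_singleton_iff.2 rfl
  have h1 := orderOf_dvd_natCard (⟨x, hx⟩ : centralizer ({x} : Set G))
  rwa [Subgroup.orderOf_mk] at h1

theorem alt {G : Type*} [Group G] {n : ℕ} (hn : 4 ≤ n) (e : G ≃* ↥(alternatingGroup (Fin n))) :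
    ∃ x : G, ¬ 2 ∣ orderOf x ∧ ¬ 2 ∣ Nat.card (centralizer ({x} : Set G)) := by
  obtain ⟨m, hm, h1, h2⟩ : ∃ m : ℕ, ¬ 2 ∣ m ∧ m ≤ n ∧ n ≤ m + 1 := by
    by_cases h : 2 ∣ n
    · exact ⟨n - 1, by omega, by omega, by omega⟩
    · exact ⟨n, h, le_refl _, by omega⟩
  obtain ⟨g, hg⟩ := (Equiv.Perm.exists_with_cycleType_iff (α := Fin n) (m := {m})).2
    ⟨by rw [Multiset.sum_singleton, Fintype.card_fin]; exact h1, by
      intro a ha
      rw [Multiset.mem_singleton.1 ha]
      omega⟩
  have hs : Equiv.Perm.sign g = 1 := by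
    rw [Equiv.Perm.sign_of_cycleType, hg, Multiset.sum_singleton, Multiset.card_singleton]
    exact Even.neg_one_pow (by
      rw [Nat.even_iff]
      omega)
  have hc : Nat.card (centralizer ({g} : Set (Equiv.Perm (Fin n)))) = m := by
    rw [Equiv.Perm.nat_card_centralizer, hg, Multiset.sum_singleton, Multiset.prod_singleton,
      Multiset.toFinset_singleton, Finset.prod_singleton, Multiset.count_singleton_self, Fintype.card_fin,
      Nat.factorial_one, mul_one]
    have h3 : n - m = 0 ∨ n - m = 1 := by omega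
    rcases h3 with h3 | h3 <;> rw [h3] <;> simp
  have hf : Function.Injective ((alternatingGroup (Fin n)).subtype.comp e.toMonoidHom) :=
    Subtype.val_injective.comp e.injective
  have h4 := card_cent_dvd _ hf (e.symm ⟨g, Equiv.Perm.mem_alternatingGroup.2 hs⟩)
  have h5 : ((alternatingGroup (Fin n)).subtype.comp e.toMonoidHom) (e.symm ⟨g, Equiv.Perm.mem_alternatingGroup.2 hs⟩) =
      g := by
    change ((e (e.symm ⟨g, Equiv.Perm.mem_alternatingGroup.2 hs⟩) : ↥(alternatingGroup (Fin n))) : Equiv.Perm (Fin n)) = g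
    rw [e.apply_symm_apply]
  rw [h5, hc] at h4
  exact of_card fun h6 => hm (h6.trans h4)

/-- elements of order `r` which do not commute with involutions -/
theorem of_na {G : Type*} [Group G] [Finite G] {r : ℕ} (hr : r.Prime) (hd : r ∣ Nat.card G) (hna : H393.Iso.NA r G) :
    ∃ x : G, ¬ 2 ∣ orderOf x ∧ ¬ 2 ∣ Nat.card (centralizer ({x} : Set G)) := by
  have : Fact r.Prime := ⟨hr⟩
  obtain ⟨x, hx⟩ := exists_prime_orderOf_dvd_card' r hd
  exact of_card (H547.SelfCent.odd_cent hx hna)

variable {G : Type u} [Group G] [Finite G]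

/-- T24a -/
theorem exists_odd_centralizer (hs : IsSimpleGroup G) (hna : ¬ IsMulCommutative G) :
    ∃ x : G, ¬ 2 ∣ orderOf x ∧ ¬ 2 ∣ Nat.card (Subgroup.centralizer ({x} : Set G)) := by
  have ro : H101.RO.RealOdd G → ∃ x : G, ¬ 2 ∣ orderOf x ∧ ¬ 2 ∣ Nat.card (Subgroup.centralizer ({x} : Set G)) := by
    rintro ⟨x, p, k, -, -, -, -, -, h⟩
    exact of_card fun h2 => (Nat.not_even_iff_odd.2 h) (even_iff_two_dvd.2 h2)
  rcases H101.RO.known_cases hna (Cfsg.Agent.S0000.result (G := G)) with h | h | h | h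
  · obtain ⟨n, hn, ⟨e⟩⟩ := h
    exact alt (by omega) e
  · exact ro h
  · exact ro (H729.RealSpor.tits h)
  · rcases H729.RealSpor.spor H799.RO.RowMcL.ro_McL H799.RO.RowCo3.ro_Co3 H525.RO.hn H525.RO.BRow.b
      H972.ROM.ro_M h with h | h | h
    · exact ro h
    · obtain ⟨h1, h2⟩ := H101.RO.isM12 h
      exact of_na (r := 11) (by norm_num) (by rw [h2]; norm_num) (H393.Iso.na_m12 h)
    · obtain ⟨h1, h2⟩ := H101.RO.isCo1 h
      exact of_na (r := 23) (by norm_num) (by rw [h2]; norm_num) (H393.Iso.na_co1 h)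

end Cfsg.Agent.H117.S4790
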